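import Groth.Prelude.Def_Wider
import Mathlib.Algebra.Category.ModuleCat.EnoughInjectives
import Mathlib.Algebra.Category.ModuleCat.Injective
import Mathlib.Algebra.Module.Injective

/-!
# Essential extensions and injective hulls
-/

universe u v

open CategoryTheory InjHull

namespace Groth.Agent.H4Inj

variable {R : Type u} [CommRing R]

section Essential

variable {M E : Type v} [AddCommGroup M] [Module R M] [AddCommGroup E] [Module R E] {f : M →ₗ[R] E}

theorem exists_smul_mem_range (hf : IsEssentialInj f) {x : E} (hx : x ≠ 0) :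
    ∃ r : R, r • x ∈ LinearMap.range f ∧ r • x ≠ 0 := by
  obtain ⟨y, hy, hy0⟩ := Submodule.exists_mem_ne_zero_of_ne_bot
    (hf.essential (Submodule.span R {x}) (by simpa using hx))
  obtain ⟨r, rfl⟩ := Submodule.mem_span_singleton.mp hy.1
  exact ⟨r, hy.2, hy0⟩

theorem isEssentialInj_of_forall (hinj : Function.Injective f)
    (h : ∀ x : E, x ≠ 0 → ∃ r : R, r • x ∈ LinearMap.range f ∧ r • x ≠ 0) : IsEssentialInj f := by
  refine ⟨hinj, fun N hN hbot => ?_⟩
  obtain ⟨x, hx, hx0⟩ := Submodule.exists_mem_ne_zero_of_ne_bot hN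
  obtain ⟨r, hr, hr0⟩ := h x hx0
  exact hr0 ((Submodule.eq_bot_iff _).mp hbot _ ⟨N.smul_mem r hx, hr⟩)

theorem injective_of_comp_essential {E' : Type*} [AddCommGroup E'] [Module R E']
    (hf : IsEssentialInj f) (g : E →ₗ[R] E') (hg : Function.Injective (g ∘ₗ f)) :
    Function.Injective g := by
  rw [← LinearMap.ker_eq_bot]
  by_contra h
  obtain ⟨x, hx, hx0⟩ := Submodule.exists_mem_ne_zero_of_ne_bot (hf.essential _ h)
  obtain ⟨hx1, y, rfl⟩ := hx
  have : g (f y) = g (f 0) := by simpa using hx1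
  exact hx0 (by rw [hg this]; simp)

theorem exists_smul_mem_subtype_range {N : Submodule R E} (h : IsEssentialInj N.subtype) {x : E}
    (hx : x ≠ 0) : ∃ r : R, r • x ∈ N ∧ r • x ≠ 0 := by
  simpa using exists_smul_mem_range h hx

theorem nontrivial_of_essential [Nontrivial M] (hf : IsEssentialInj f) : Nontrivial E :=
  hf.injective.nontrivial

end Essential

section Injective

variable {E : Type u} [AddCommGroup E] [Module R E]

theorem injective_of_leftInverse {F : Type u} [AddCommGroup F] [Module R F]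
    (hF : Module.Injective R F) (i : E →ₗ[R] F) (r : F →ₗ[R] E) (h : r ∘ₗ i = LinearMap.id) :
    Module.Injective R E where
  out X Y _ _ _ _ φ hφ g := by
    obtain ⟨g', hg'⟩ := hF.out φ hφ (i ∘ₗ g)
    exact ⟨r ∘ₗ g', fun x => by simp [hg', ← LinearMap.comp_apply r i, h]⟩

theorem injective_of_equiv {F : Type u} [AddCommGroup F] [Module R F] (e : E ≃ₗ[R] F)
    (hF : Module.Injective R F) : Module.Injective R E :=
  injective_of_leftInverse hF e.toLinearMap e.symm.toLinearMap (by ext; simp)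

theorem injective_of_isCompl {N N' : Submodule R E} (hE : Module.Injective R E)
    (h : IsCompl N N') : Module.Injective R N :=
  injective_of_leftInverse hE N.subtype (Submodule.projectionOnto N N' h)
    (LinearMap.ext fun x => Submodule.projectionOnto_apply_left h x)

/-- An injective submodule is a direct summand. -/
theorem exists_isCompl_of_injective (N : Submodule R E) (hN : Module.Injective R N) :
    ∃ N' : Submodule R E, IsCompl N N' := by
  obtain ⟨p, hp⟩ := Module.Injective.extension_property R N N E N.subtype Subtype.val_injective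
    LinearMap.id
  exact ⟨LinearMap.ker p, LinearMap.isCompl_of_proj fun x => LinearMap.congr_fun hp x⟩

theorem exists_injective_embedding (M : Type u) [AddCommGroup M] [Module R M] :
    ∃ (I : Type u) (_ : AddCommGroup I) (_ : Module R I) (i : M →ₗ[R] I),
      Function.Injective i ∧ Module.Injective R I := by
  let J := Injective.under (ModuleCat.of R M)
  refine ⟨J, inferInstance, inferInstance, (Injective.ι (ModuleCat.of R M)).hom, ?_, ?_⟩
  · exact (ModuleCat.mono_iff_injective _).mp inferInstance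
  · exact (Module.injective_iff_injective_object (R := R) (M := J)).mpr (inferInstanceAs (Injective J))

/-- `N` is essential in `E'` (both submodules of `E`). -/
def EssIn (N E' : Submodule R E) : Prop :=
  N ≤ E' ∧ ∀ x ∈ E', x ≠ 0 → ∃ r : R, r • x ∈ N ∧ r • x ≠ 0

theorem exists_maximal_essIn (N : Submodule R E) :
    ∃ E₀ : Submodule R E, EssIn N E₀ ∧ ∀ E', EssIn N E' → E₀ ≤ E' → E' = E₀ := by
  obtain ⟨E₀, hE₀⟩ := zorn_le_nonempty₀ {E' : Submodule R E | EssIn N E'} (fun c hc hchain E' hE' => by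
    refine ⟨sSup c, ⟨le_trans (hc hE').1 (le_sSup hE'), fun x hx hx0 => ?_⟩, fun F hF => le_sSup hF⟩
    rw [Submodule.mem_sSup_of_directed ⟨E', hE'⟩ hchain.directedOn] at hx
    obtain ⟨F, hF, hxF⟩ := hx
    exact (hc hF).2 x hxF hx0) N ⟨le_rfl, fun x hx hx0 => ⟨1, by simpa using hx, by simpa using hx0⟩⟩
  exact ⟨E₀, hE₀.2.1, fun E' hE' hle => le_antisymm (hE₀.2.2 hE' hle) hle⟩

/-- A submodule of an injective module with no proper essential extension inside it is a summand. -/
theorem exists_isCompl_of_maximal_essIn (hE : Module.Injective R E) (E₀ : Submodule R E)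
    (hmax : ∀ E' : Submodule R E, EssIn E₀ E' → E' = E₀) : ∃ C, IsCompl E₀ C := by
  obtain ⟨C, hC⟩ := zorn_le_nonempty₀ {C : Submodule R E | Disjoint E₀ C} (fun c hc hchain y hy => by
    refine ⟨sSup c, ?_, fun F hF => le_sSup hF⟩
    show Disjoint E₀ (sSup c)
    rw [Submodule.disjoint_def]
    intro x hx hx'
    rw [Submodule.mem_sSup_of_directed ⟨y, hy⟩ hchain.directedOn] at hx'
    obtain ⟨F, hF, hxF⟩ := hx'
    exact Submodule.disjoint_def.mp (hc hF) x hx hxF) ⊥ disjoint_bot_right
  obtain ⟨hdisj, hCmax⟩ : Disjoint E₀ C ∧ ∀ C', Disjoint E₀ C' → C ≤ C' → C' ≤ C := ⟨hC.2.1, fun C' h h' => hC.2.2 h h'⟩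
  refine ⟨C, hdisj, ?_⟩
  have hinj : Function.Injective (C.mkQ ∘ₗ E₀.subtype) := by
    rw [← LinearMap.ker_eq_bot, Submodule.eq_bot_iff]
    intro x hx
    have hxC : (x : E) ∈ C := (Submodule.Quotient.mk_eq_zero C).mp hx
    exact Subtype.ext (Submodule.disjoint_def.mp hdisj _ x.2 hxC)
  have hess : IsEssentialInj (C.mkQ ∘ₗ E₀.subtype) := by
    refine isEssentialInj_of_forall hinj fun y hy => ?_
    obtain ⟨x, rfl⟩ := Submodule.mkQ_surjective C y
    have hxC : x ∉ C := fun h => hy ((Submodule.Quotient.mk_eq_zero C).mpr h)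
    have hnd : ¬ Disjoint E₀ (C ⊔ Submodule.span R {x}) := fun h =>
      hxC ((hCmax _ h le_sup_left) (Submodule.mem_sup_right (Submodule.mem_span_singleton_self x)))
    rw [Submodule.disjoint_def] at hnd
    push Not at hnd
    obtain ⟨e, he, hec, he0⟩ := hnd
    obtain ⟨c, hc, z, hz, hadd⟩ := Submodule.mem_sup.mp hec
    obtain ⟨r, rfl⟩ := Submodule.mem_span_singleton.mp hz
    have hmk : r • C.mkQ x = C.mkQ e := by
      rw [← hadd, map_add, map_smul, show C.mkQ c = 0 from (Submodule.Quotient.mk_eq_zero C).mpr hc,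
        zero_add]
    refine ⟨r, ⟨⟨e, he⟩, ?_⟩, ?_⟩
    · rw [hmk]; rfl
    · rw [hmk]
      intro h
      exact he0 (Submodule.disjoint_def.mp hdisj e he ((Submodule.Quotient.mk_eq_zero C).mp h))
  obtain ⟨g, hg⟩ := Module.Injective.extension_property R E E₀ (E ⧸ C) _ hinj E₀.subtype
  have hginj : Function.Injective g :=
    injective_of_comp_essential hess g (by rw [hg]; exact Subtype.val_injective)
  have hrange : EssIn E₀ (LinearMap.range g) := by
    refine ⟨fun x hx => ⟨_, LinearMap.congr_fun hg ⟨x, hx⟩⟩, ?_⟩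
    rintro _ ⟨y, rfl⟩ hy0
    obtain ⟨r, ⟨e, he⟩, hr0⟩ := exists_smul_mem_range hess (x := y) (fun h => hy0 (by simp [h]))
    refine ⟨r, ?_, ?_⟩
    · rw [← map_smul, ← he, ← LinearMap.comp_apply g, hg]
      exact e.2
    · rw [← map_smul]
      exact fun h => hr0 (hginj (by simpa using h))
  have hEq := hmax _ hrange
  rw [codisjoint_iff, eq_top_iff]
  intro x _
  have hgx : g (C.mkQ x) ∈ E₀ := hEq.le ⟨_, rfl⟩
  have hdiff : C.mkQ (g (C.mkQ x)) = C.mkQ x := by
    apply hginj
    exact LinearMap.congr_fun hg ⟨_, hgx⟩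
  refine Submodule.mem_sup.mpr ⟨_, hgx, x - g (C.mkQ x), ?_, add_sub_cancel _ _⟩
  exact (Submodule.Quotient.eq C).mp hdiff.symm

/-- Criterion for a submodule of an injective module to be injective. -/
theorem injective_iff_maximal_essIn (hE : Module.Injective R E) (E₀ : Submodule R E) :
    Module.Injective R E₀ ↔ ∀ E' : Submodule R E, EssIn E₀ E' → E' = E₀ := by
  constructor
  · intro h E' hE'
    obtain ⟨C, hC⟩ := exists_isCompl_of_injective E₀ h
    refine le_antisymm (fun x hx => ?_) hE'.1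
    obtain ⟨e, he, c, hc, rfl⟩ := Submodule.mem_sup.mp
      (show x ∈ E₀ ⊔ C by rw [hC.sup_eq_top]; trivial)
    suffices c = 0 by simpa [this] using he
    by_contra hc0
    have hcE' : c ∈ E' := by simpa using E'.sub_mem hx (hE'.1 he)
    obtain ⟨r, hr, hr0⟩ := hE'.2 c hcE' hc0
    exact hr0 (Submodule.disjoint_def.mp hC.disjoint _ hr (C.smul_mem r hc))
  · intro h
    obtain ⟨C, hC⟩ := exists_isCompl_of_maximal_essIn hE E₀ h
    exact injective_of_isCompl hE hC

end Injective

section Hull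

variable {M E : Type u} [AddCommGroup M] [Module R M] [AddCommGroup E] [Module R E]

theorem EssIn.trans {N P Q : Submodule R E} (h1 : EssIn N P) (h2 : EssIn P Q) : EssIn N Q := by
  refine ⟨h1.1.trans h2.1, fun x hx hx0 => ?_⟩
  obtain ⟨r, hr, hr0⟩ := h2.2 x hx hx0
  obtain ⟨s, hs, hs0⟩ := h1.2 _ hr hr0
  exact ⟨s * r, by rwa [mul_smul], by rwa [mul_smul]⟩

theorem exists_isInjectiveHull (M : Type u) [AddCommGroup M] [Module R M] :
    ∃ (E : Type u) (_ : AddCommGroup E) (_ : Module R E) (f : M →ₗ[R] E), IsInjectiveHull f := by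
  obtain ⟨I, _, _, i, hi, hI⟩ := exists_injective_embedding (R := R) M
  obtain ⟨E₀, hE₀, hmax⟩ := exists_maximal_essIn (LinearMap.range i)
  have hinj : Module.Injective R E₀ :=
    (injective_iff_maximal_essIn hI E₀).mpr fun E' hE' => hmax E' (hE₀.trans hE') hE'.1
  refine ⟨E₀, inferInstance, inferInstance, i.codRestrict E₀ fun m => hE₀.1 ⟨m, rfl⟩,
    isEssentialInj_of_forall (fun a b h => hi (congrArg Subtype.val h)) fun x hx0 => ?_, hinj⟩
  obtain ⟨r, ⟨m, hm⟩, hr0⟩ := hE₀.2 x.1 x.2 (fun h => hx0 (Subtype.ext h))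
  exact ⟨r, ⟨m, Subtype.ext hm⟩, fun h => hr0 (congrArg Subtype.val h)⟩

theorem splits_off {I : Type u} [AddCommGroup I] [Module R I] {f : M →ₗ[R] E}
    (hf : IsInjectiveHull f) (i : M →ₗ[R] I) (hi : Function.Injective i)
    (hI : Module.Injective R I) :
    ∃ α : E →ₗ[R] I, Function.Injective α ∧ α ∘ₗ f = i ∧
      ∃ I' : Submodule R I, IsCompl (LinearMap.range α) I' := by
  obtain ⟨α, hα⟩ := Module.Injective.extension_property R I M E f hf.injective i
  have hαinj : Function.Injective α :=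
    injective_of_comp_essential hf.toIsEssentialInj α (by rw [hα]; exact hi)
  exact ⟨α, hαinj, hα, exists_isCompl_of_injective _
    (injective_of_equiv (LinearEquiv.ofInjective α hαinj).symm hf.isInjective)⟩

theorem hull_unique {E' : Type u} [AddCommGroup E'] [Module R E'] {f : M →ₗ[R] E}
    (hf : IsInjectiveHull f) {g : M →ₗ[R] E'} (hg : IsInjectiveHull g) :
    ∃ e : E ≃ₗ[R] E', e.toLinearMap ∘ₗ f = g := by
  obtain ⟨α, hα, hαf, I', hI'⟩ := splits_off hf g hg.injective hg.isInjective
  have hbot : I' = ⊥ := by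
    by_contra h
    obtain ⟨x, hx, hx0⟩ := Submodule.exists_mem_ne_zero_of_ne_bot h
    obtain ⟨r, ⟨m, hm⟩, hr0⟩ := exists_smul_mem_range hg.toIsEssentialInj hx0
    exact hr0 (Submodule.disjoint_def.mp hI'.disjoint _ ⟨f m, by rw [← hm, ← hαf]; rfl⟩
      (I'.smul_mem r hx))
  have htop : LinearMap.range α = ⊤ := by simpa [hbot] using hI'.sup_eq_top
  exact ⟨LinearEquiv.ofBijective α ⟨hα, LinearMap.range_eq_top.mp htop⟩, hαf⟩

theorem IsInjectiveHull.comp_equiv {E' : Type u} [AddCommGroup E'] [Module R E'] {f : M →ₗ[R] E}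
    (hf : IsInjectiveHull f) (e : E ≃ₗ[R] E') : IsInjectiveHull (e.toLinearMap ∘ₗ f) := by
  refine ⟨isEssentialInj_of_forall (e.injective.comp hf.injective) fun x hx => ?_,
    injective_of_equiv e.symm hf.isInjective⟩
  obtain ⟨r, ⟨m, hm⟩, hr0⟩ := exists_smul_mem_range hf.toIsEssentialInj (x := e.symm x)
    (fun h => hx (by simpa using congrArg e h))
  refine ⟨r, ⟨m, by simp [hm]⟩, fun h => hr0 ?_⟩
  rw [← map_smul, h, map_zero]

end Hull

end Groth.Agent.H4Inj
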