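import Groth.Agent.H4Inj.Essential
import Mathlib.RingTheory.LocalRing.ResidueField.Ideal
import Mathlib.RingTheory.Ideal.AssociatedPrime.Basic
import Mathlib.RingTheory.Noetherian.Basic
import Mathlib.Algebra.DirectSum.Module
import Mathlib.RingTheory.Filtration

/-!
# Indecomposable injectives, direct sums, torsion submodules of injectives
-/

universe u v

open InjHull

namespace Groth.Agent.H4Inj

variable {R : Type u} [CommRing R]

section Indecomposable

variable {E : Type u} [AddCommGroup E] [Module R E]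

theorem inf_ne_bot_of_indecomposable (hE : IsIndecomposable R E) (hinj : Module.Injective R E)
    {N N' : Submodule R E} (hN : N ≠ ⊥) (hN' : N' ≠ ⊥) : N ⊓ N' ≠ ⊥ := by
  obtain ⟨E₀, hE₀, hmax⟩ := exists_maximal_essIn N
  obtain ⟨C, hC⟩ := exists_isCompl_of_maximal_essIn hinj E₀
    fun E' hE' => hmax E' (hE₀.trans hE') hE'.1
  rcases hE.2 _ _ hC with h | h
  · exact absurd (eq_bot_iff.mpr (h ▸ hE₀.1)) hN
  · obtain ⟨x, hx, hx0⟩ := Submodule.exists_mem_ne_zero_of_ne_bot hN'
    have hx' : x ∈ E₀ := by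
      have hst : E₀ = ⊤ := by simpa [h] using hC.sup_eq_top
      rw [hst]
      trivial
    obtain ⟨r, hr, hr0⟩ := hE₀.2 x hx' hx0
    exact fun hbot => hr0 ((Submodule.eq_bot_iff _).mp hbot _ ⟨hr, N'.smul_mem r hx⟩)

theorem isIndecomposable_of_inf_ne_bot [Nontrivial E]
    (h : ∀ N N' : Submodule R E, N ≠ ⊥ → N' ≠ ⊥ → N ⊓ N' ≠ ⊥) : IsIndecomposable R E := by
  refine ⟨inferInstance, fun N N' hc => ?_⟩
  by_contra hcon
  rw [not_or] at hcon
  exact h N N' hcon.1 hcon.2 hc.inf_eq_bot

theorem exists_prime_eq_zeroDivisors (hE : IsIndecomposable R E) (hinj : Module.Injective R E) :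
    ∃ p : Ideal R, p.IsPrime ∧ (p : Set R) = {r : R | ∃ x : E, x ≠ 0 ∧ r • x = 0} := by
  have key : ∀ r s : R, (∃ x : E, x ≠ 0 ∧ r • x = 0) → (∃ x : E, x ≠ 0 ∧ s • x = 0) →
      ∃ x : E, x ≠ 0 ∧ r • x = 0 ∧ s • x = 0 := by
    rintro r s ⟨x, hx0, hx⟩ ⟨y, hy0, hy⟩
    obtain ⟨z, hz, hz0⟩ := Submodule.exists_mem_ne_zero_of_ne_bot
      (inf_ne_bot_of_indecomposable hE hinj (N := Submodule.span R {x}) (N' := Submodule.span R {y})
        (by simpa using hx0) (by simpa using hy0))
    obtain ⟨a, rfl⟩ := Submodule.mem_span_singleton.mp hz.1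
    obtain ⟨b, hb⟩ := Submodule.mem_span_singleton.mp hz.2
    refine ⟨_, hz0, by rw [smul_comm, hx, smul_zero], ?_⟩
    rw [← hb, smul_comm, hy, smul_zero]
  obtain ⟨e, he⟩ := @exists_ne E hE.1 0
  let p : Ideal R :=
    { carrier := {r : R | ∃ x : E, x ≠ 0 ∧ r • x = 0}
      add_mem' := fun {r s} hr hs => by
        obtain ⟨x, hx0, h1, h2⟩ := key r s hr hs
        exact ⟨x, hx0, by simp [add_smul, h1, h2]⟩
      zero_mem' := ⟨e, he, zero_smul R e⟩
      smul_mem' := fun c r => by
        rintro ⟨x, hx0, hx⟩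
        exact ⟨x, hx0, by simp [mul_smul, hx]⟩ }
  refine ⟨p, ⟨?_, fun {r s} h => ?_⟩, rfl⟩
  · intro h
    obtain ⟨x, hx0, hx⟩ := (h ▸ Submodule.mem_top : (1 : R) ∈ p)
    exact hx0 (by simpa using hx)
  · obtain ⟨x, hx0, hx⟩ := h
    by_cases hs : s • x = 0
    · exact Or.inr ⟨x, hx0, hs⟩
    · exact Or.inl ⟨s • x, hs, by rwa [← mul_smul]⟩

end Indecomposable

section Prime

variable (p : Ideal R) [p.IsPrime] {E : Type u} [AddCommGroup E] [Module R E]
  {f : (R ⧸ p) →ₗ[R] E}

theorem isIndecomposable_hull_quotient_prime (hf : IsInjectiveHull f) : IsIndecomposable R E := by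
  have : Nontrivial (R ⧸ p) := Ideal.Quotient.nontrivial_iff.mpr (Ideal.IsPrime.ne_top ‹_›)
  have : Nontrivial E := nontrivial_of_essential hf.toIsEssentialInj
  refine isIndecomposable_of_inf_ne_bot fun N N' hN hN' h => ?_
  obtain ⟨a, ⟨haN, a', rfl⟩, ha0⟩ := Submodule.exists_mem_ne_zero_of_ne_bot (hf.essential N hN)
  obtain ⟨b, ⟨hbN, b', rfl⟩, hb0⟩ := Submodule.exists_mem_ne_zero_of_ne_bot (hf.essential N' hN')
  obtain ⟨r, rfl⟩ := Ideal.Quotient.mk_surjective a'
  obtain ⟨s, rfl⟩ := Ideal.Quotient.mk_surjective b'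
  have h1 : f (Ideal.Quotient.mk p (r * s)) = s • f (Ideal.Quotient.mk p r) := by
    rw [← map_smul]; congr 1; rw [mul_comm]; rfl
  have h2 : f (Ideal.Quotient.mk p (r * s)) = r • f (Ideal.Quotient.mk p s) := by
    rw [← map_smul]; rfl
  have h0 := (Submodule.eq_bot_iff _).mp h _
    (⟨h1 ▸ N.smul_mem s haN, h2 ▸ N'.smul_mem r hbN⟩ : f (Ideal.Quotient.mk p (r * s)) ∈ N ⊓ N')
  rw [map_eq_zero_iff f hf.injective, map_mul, mul_eq_zero] at h0
  rcases h0 with h0 | h0
  · exact ha0 (by rw [h0, map_zero])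
  · exact hb0 (by rw [h0, map_zero])

theorem exists_residueField_hull (hf : IsInjectiveHull f) :
    ∃ g : p.ResidueField →ₗ[R] E, IsInjectiveHull g := by
  let φ : (R ⧸ p) →ₗ[R] p.ResidueField :=
    (IsScalarTower.toAlgHom R (R ⧸ p) p.ResidueField).toLinearMap
  have hφ : Function.Injective φ := p.injective_algebraMap_quotient_residueField
  obtain ⟨g, hg⟩ := Module.Injective.extension_property (inj := hf.isInjective) R E (R ⧸ p) p.ResidueField φ hφ f
  have hess : IsEssentialInj φ := by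
    refine isEssentialInj_of_forall hφ fun x hx => ?_
    obtain ⟨a, s, rfl⟩ : ∃ (a : R ⧸ p) (s : R ⧸ p),
        algebraMap _ p.ResidueField a / algebraMap _ p.ResidueField s = x := by
      obtain ⟨a, s, -, h⟩ := IsFractionRing.div_surjective (R ⧸ p) x
      exact ⟨a, s, h⟩
    have hs : s ≠ 0 := fun h => hx (by simp [h])
    obtain ⟨s, rfl⟩ := Ideal.Quotient.mk_surjective s
    have hne : algebraMap (R ⧸ p) p.ResidueField (Ideal.Quotient.mk p s) ≠ 0 :=
      fun h => hs (p.injective_algebraMap_quotient_residueField (by simpa using h))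
    have hsx : s • (algebraMap _ p.ResidueField a / algebraMap _ p.ResidueField (Ideal.Quotient.mk p s))
        = φ a := by
      rw [Algebra.smul_def, IsScalarTower.algebraMap_apply R (R ⧸ p) p.ResidueField,
        Ideal.Quotient.algebraMap_eq, mul_div_cancel₀ _ hne]
      rfl
    refine ⟨s, ⟨a, hsx.symm⟩, fun h => hx ?_⟩
    rw [hsx] at h
    rw [(map_eq_zero_iff φ hφ).mp h, map_zero, zero_div]
  have hginj : Function.Injective g :=
    injective_of_comp_essential hess g (by rw [hg]; exact hf.injective)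
  refine ⟨g, isEssentialInj_of_forall hginj fun x hx => ?_, hf.isInjective⟩
  obtain ⟨r, ⟨m, hm⟩, hr0⟩ := exists_smul_mem_range hf.toIsEssentialInj hx
  exact ⟨r, ⟨φ m, by rw [← hm]; exact LinearMap.congr_fun hg m⟩, hr0⟩

end Prime

section Noetherian

variable [IsNoetherianRing R]

theorem injective_directSum {ι : Type u} (E : ι → Type u) [∀ i, AddCommGroup (E i)]
    [∀ i, Module R (E i)] (hE : ∀ i, Module.Injective R (E i)) :
    Module.Injective R (DirectSum ι E) := by
  classical
  refine Module.Baer.injective fun I g => ?_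
  obtain ⟨t, ht⟩ := (IsNoetherian.noetherian (⊤ : Submodule R I))
  let s : Finset ι := t.biUnion fun x => (g x).support
  have hsupp : ∀ (x : I) (i : ι), i ∉ s → g x i = 0 := by
    intro x i hi
    have : (⊤ : Submodule R I) ≤ LinearMap.ker ((DirectSum.component R ι E i) ∘ₗ g) := by
      rw [← ht, Submodule.span_le]
      intro y hy
      by_contra hne
      exact hi (Finset.mem_biUnion.mpr ⟨y, hy, DFinsupp.mem_support_iff.mpr hne⟩)
    exact this (Submodule.mem_top : x ∈ ⊤)
  choose h hh using fun i => Module.Injective.extension_property (inj := hE i) R (E i) I R I.subtype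
    Subtype.val_injective (DirectSum.component R ι E i ∘ₗ g)
  refine ⟨∑ i ∈ s, DirectSum.lof R ι E i ∘ₗ h i, fun x hx => DirectSum.ext_component R fun i => ?_⟩
  have hhx : h i x = g ⟨x, hx⟩ i := LinearMap.congr_fun (hh i) ⟨x, hx⟩
  by_cases hi : i ∈ s
  · simp only [LinearMap.sum_apply, LinearMap.comp_apply, map_sum]
    rw [Finset.sum_eq_single i]
    · rw [DirectSum.component.lof_self]; exact hhx
    · intro j _ hji
      rw [DirectSum.component.of, dif_neg hji]
    · exact fun h => absurd hi h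
  · simp only [LinearMap.sum_apply, LinearMap.comp_apply, map_sum]
    rw [Finset.sum_eq_zero fun j hj => by
      rw [DirectSum.component.of, dif_neg (show ¬ j = i from fun h' => hi (by rw [← h']; exact hj))]]
    exact (hsupp ⟨x, hx⟩ i hi).symm

theorem exists_isAssociatedPrime_embedding {E : Type u} [AddCommGroup E] [Module R E]
    [Nontrivial E] :
    ∃ (p : Ideal R) (_ : p.IsPrime) (f : (R ⧸ p) →ₗ[R] E), Function.Injective f := by
  obtain ⟨x, hx⟩ := exists_ne (0 : E)
  obtain ⟨p, hp, -⟩ := exists_le_isAssociatedPrime_of_isNoetherianRing R x hx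
  obtain ⟨hpp, y, hy⟩ := isAssociatedPrime_iff.mp hp
  refine ⟨p, hpp, p.liftQ (LinearMap.toSpanSingleton R E y) ?_, ?_⟩
  · intro a ha
    simpa [hy, Submodule.mem_colon_singleton] using ha
  · rw [← LinearMap.ker_eq_bot]
    apply Submodule.ker_liftQ_eq_bot
    intro a ha
    simpa [hy, Submodule.mem_colon_singleton] using ha

theorem exists_residueField_hull_of_indecomposable {E : Type u} [AddCommGroup E] [Module R E]
    (hE : IsIndecomposable R E) (hinj : Module.Injective R E) :
    ∃ (p : Ideal R) (_ : p.IsPrime) (g : p.ResidueField →ₗ[R] E), IsInjectiveHull g := by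
  have := hE.1
  obtain ⟨p, hp, f, hf⟩ := exists_isAssociatedPrime_embedding (R := R) (E := E)
  have : Nontrivial (R ⧸ p) := Ideal.Quotient.nontrivial_iff.mpr hp.ne_top
  have hess : IsEssentialInj f := by
    refine isEssentialInj_of_forall hf fun x hx => ?_
    obtain ⟨y, hy, hy0⟩ := Submodule.exists_mem_ne_zero_of_ne_bot
      (inf_ne_bot_of_indecomposable hE hinj (N := Submodule.span R {x}) (N' := LinearMap.range f)
        (by simpa using hx) (by
          intro h
          rw [LinearMap.range_eq_bot] at h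
          obtain ⟨z, hz⟩ := exists_ne (0 : R ⧸ p)
          exact hz (hf (by simp [h]))))
    obtain ⟨r, rfl⟩ := Submodule.mem_span_singleton.mp hy.1
    exact ⟨r, hy.2, hy0⟩
  exact ⟨p, hp, exists_residueField_hull p ⟨hess, hinj⟩⟩

theorem exists_pow_inf_le (J a : Ideal R) (n : ℕ) : ∃ k, J ^ k ⊓ a ≤ J ^ n * a := by
  obtain ⟨c, hc⟩ := Ideal.exists_pow_inf_eq_pow_smul J (a : Submodule R R)
  refine ⟨c + n, ?_⟩
  have h := hc (c + n) le_self_add
  simp only [smul_eq_mul, Ideal.mul_top, add_tsub_cancel_left] at h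
  rw [h]
  exact Ideal.mul_mono le_rfl inf_le_right

/-- The `J`-power torsion submodule of an injective module is injective. -/
theorem injective_powerTorsion {I : Type u} [AddCommGroup I] [Module R I]
    (hI : Module.Injective R I) (J : Ideal R) :
    Module.Injective R ↥(⨆ n : ℕ, Submodule.torsionBySet R I ((J ^ n : Ideal R) : Set R)) := by
  refine Module.Baer.injective fun a g => ?_
  have hdir : Directed (· ≤ ·) fun n : ℕ => Submodule.torsionBySet R I ((J ^ n : Ideal R) : Set R) :=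
    Monotone.directed_le fun m n hmn =>
      Submodule.torsionBySet_le_torsionBySet_of_subset (Ideal.pow_le_pow_right hmn)
  obtain ⟨t, ht⟩ := (IsNoetherian.noetherian (⊤ : Submodule R a))
  have hx : ∀ x : a, ∃ n, (g x : I) ∈ Submodule.torsionBySet R I ((J ^ n : Ideal R) : Set R) :=
    fun x => (Submodule.mem_iSup_of_directed _ hdir).mp (g x).2
  choose ν hν using hx
  obtain ⟨n, hn⟩ : ∃ n, ∀ x : a, (g x : I) ∈ Submodule.torsionBySet R I ((J ^ n : Ideal R) : Set R) := by
    refine ⟨t.sup ν, fun x => ?_⟩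
    have : (⊤ : Submodule R a) ≤ (Submodule.torsionBySet R I ((J ^ (t.sup ν) : Ideal R) : Set R)).comap
        (Submodule.subtype _ ∘ₗ g) := by
      rw [← ht, Submodule.span_le]
      intro y hy
      exact Submodule.torsionBySet_le_torsionBySet_of_subset
        (Ideal.pow_le_pow_right (Finset.le_sup hy)) (hν y)
    exact this (Submodule.mem_top : x ∈ ⊤)
  obtain ⟨k, hk⟩ := exists_pow_inf_le J a n
  let ψ : a →ₗ[R] R ⧸ J ^ k := Submodule.mkQ (J ^ k) ∘ₗ a.subtype
  let g' : a →ₗ[R] I := Submodule.subtype _ ∘ₗ g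
  have hker : LinearMap.ker ψ ≤ LinearMap.ker g' := by
    intro x hx
    have hxk : (x : R) ∈ J ^ k := (Submodule.Quotient.mk_eq_zero _).mp hx
    have hle : J ^ n * a ≤ (LinearMap.ker g').map a.subtype := by
      refine Ideal.mul_le.mpr fun c hc d hd => ⟨c • ⟨d, hd⟩, ?_, rfl⟩
      rw [SetLike.mem_coe, LinearMap.mem_ker, map_smul]
      exact (Submodule.mem_torsionBySet_iff _ _).mp (hn ⟨d, hd⟩) ⟨c, hc⟩
    obtain ⟨y, hy, hyx⟩ := hle (hk ⟨hxk, x.2⟩)
    rwa [show x = y from Subtype.ext hyx.symm]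
  obtain ⟨G, hG⟩ := Module.Injective.extension_property (inj := hI) R I _ (R ⧸ J ^ k)
    ((LinearMap.ker ψ).liftQ ψ le_rfl)
    (LinearMap.ker_eq_bot.mp (Submodule.ker_liftQ_eq_bot _ _ _ le_rfl))
    ((LinearMap.ker ψ).liftQ g' hker)
  have hrange : ∀ r : R, G (Submodule.Quotient.mk r) ∈
      ⨆ n : ℕ, Submodule.torsionBySet R I ((J ^ n : Ideal R) : Set R) := by
    intro r
    refine Submodule.mem_iSup_of_mem k ((Submodule.mem_torsionBySet_iff _ _).mpr fun c => ?_)
    rw [← map_smul, ← Submodule.Quotient.mk_smul,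
      (Submodule.Quotient.mk_eq_zero _).mpr (show (c : R) • r ∈ J ^ k from Ideal.mul_mem_right r (J ^ k) c.2), map_zero]
  refine ⟨(G ∘ₗ Submodule.mkQ (J ^ k)).codRestrict _ hrange, fun x hx => Subtype.ext ?_⟩
  exact LinearMap.congr_fun hG (Submodule.Quotient.mk ⟨x, hx⟩)

end Noetherian

end Groth.Agent.H4Inj
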