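import Groth.Agent.H4Inj.Indecomposable
import Mathlib.Order.SupIndep

/-!
# Decomposition of injective modules into indecomposables
-/

universe u

open InjHull

namespace Groth.Agent.H4Inj

variable {R : Type u} [CommRing R] [IsNoetherianRing R]

theorem injective_iSup_of_iSupIndep {I : Type u} [AddCommGroup I] [Module R I] {ι : Type u}
    (E : ι → Submodule R I) (hind : iSupIndep E) (hE : ∀ i, Module.Injective R (E i)) :
    Module.Injective R ↥(⨆ i, E i) := by
  classical
  refine injective_of_equiv ?_ (injective_directSum (fun i => E i) hE)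
  exact ((LinearEquiv.ofInjective (DirectSum.coeLinearMap E) hind.dfinsupp_lsum_injective).trans
    (LinearEquiv.ofEq _ _ DirectSum.range_coeLinearMap)).symm

theorem exists_indecomposable_injective_le {I : Type u} [AddCommGroup I] [Module R I]
    (C : Submodule R I) (hC : Module.Injective R C) (hne : C ≠ ⊥) :
    ∃ N : Submodule R I, N ≤ C ∧ N ≠ ⊥ ∧ IsIndecomposable R N ∧ Module.Injective R N := by
  have : Nontrivial C := Submodule.nontrivial_iff_ne_bot.mpr hne
  obtain ⟨p, hp, f, hf⟩ := exists_isAssociatedPrime_embedding (R := R) (E := C)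
  obtain ⟨E, _, _, h, hh⟩ := exists_isInjectiveHull (R := R) (R ⧸ p)
  obtain ⟨α, hα, -, -⟩ := splits_off hh f hf hC
  let e : E ≃ₗ[R] LinearMap.range (C.subtype ∘ₗ α) :=
    LinearEquiv.ofInjective _ (Subtype.val_injective.comp hα)
  have hE := isIndecomposable_hull_quotient_prime p hh
  refine ⟨LinearMap.range (C.subtype ∘ₗ α), ?_, ?_, ?_, injective_of_equiv e.symm hh.isInjective⟩
  · rintro _ ⟨x, rfl⟩
    exact (α x).2
  · exact Submodule.nontrivial_iff_ne_bot.mp (@Equiv.nontrivial _ _ e.symm.toEquiv hE.1)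
  · exact isIndecomposable_hull_quotient_prime p (IsInjectiveHull.comp_equiv hh e)

open Classical in
theorem exists_decomposition {I : Type u} [AddCommGroup I] [Module R I]
    (hI : Module.Injective R I) :
    ∃ (ι : Type u) (E : ι → Submodule R I), DirectSum.IsInternal E ∧
      ∀ i, IsIndecomposable R ↥(E i) ∧ Module.Injective R ↥(E i) := by
  classical
  obtain ⟨S, hS⟩ := zorn_subset {S : Set (Submodule R I) | sSupIndep S ∧
      ∀ N ∈ S, N ≠ ⊥ ∧ IsIndecomposable R N ∧ Module.Injective R N}
    (fun c hc hchain => ⟨⋃₀ c, ⟨iSupIndep_sUnion_of_directed hchain.directedOn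
      fun s hs => (hc hs).1, fun N ⟨s, hs, hN⟩ => (hc hs).2 N hN⟩,
      fun s hs => Set.subset_sUnion_of_mem hs⟩)
  obtain ⟨⟨hind, hprop⟩, hmax⟩ := hS
  have hind' : iSupIndep fun N : S => (N : Submodule R I) := (sSupIndep_iff S).mp hind
  refine ⟨S, fun N => N.1, ?_, fun N => ⟨(hprop N.1 N.2).2.1, (hprop N.1 N.2).2.2⟩⟩
  suffices h : (⨆ N : S, (N : Submodule R I)) = ⊤ by
    convert (DirectSum.isInternal_submodule_iff_iSupIndep_and_iSup_eq_top
      (fun N : S => (N : Submodule R I))).mpr ⟨hind', h⟩
  obtain ⟨C, hC⟩ := exists_isCompl_of_injective (⨆ N : S, (N : Submodule R I))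
    (injective_iSup_of_iSupIndep _ hind' fun N => (hprop N.1 N.2).2.2)
  by_contra hne
  have hCne : C ≠ ⊥ := fun h => hne (by simpa [h] using hC.sup_eq_top)
  obtain ⟨N, hNC, hN0, hN⟩ := exists_indecomposable_injective_le C
    (injective_of_isCompl hI hC.symm) hCne
  have hdisj : Disjoint N (sSup S) := by
    rw [sSup_eq_iSup']
    exact Disjoint.mono_left hNC hC.disjoint.symm
  have hNS : N ∉ S := fun h => hN0 (disjoint_self.mp (hdisj.mono_right (le_sSup h)))
  have hmem : sSupIndep (insert N S) := by
    intro a ha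
    rw [disjoint_iff]
    by_cases haN : a = N
    · subst haN
      rw [← disjoint_iff]
      refine hdisj.mono_right (sSup_le_sSup ?_)
      intro x hx
      exact (Set.mem_insert_iff.mp hx.1).resolve_left hx.2
    · have haS : a ∈ S := ha.resolve_left haN
      have hset : insert N S \ {a} = insert N (S \ {a}) := (Set.insert_diff_singleton_comm (Ne.symm haN) S).symm
      rw [hset, sSup_insert, eq_bot_iff]
      intro x hx
      obtain ⟨n, hn, s, hs, rfl⟩ := Submodule.mem_sup.mp hx.2
      have hs' : s ∈ sSup S := (sSup_le_sSup (Set.diff_subset : S \ {a} ⊆ S)) hs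
      have hn' : n ∈ sSup S := by simpa using (sSup S).sub_mem (le_sSup haS hx.1) hs'
      obtain rfl : n = 0 := Submodule.disjoint_def.mp hdisj n hn hn'
      exact (disjoint_iff.mp (hind haS)).le ⟨by simpa using hx.1, by simpa using hs⟩
  exact hNS (hmax ⟨hmem, fun M hM => by
    rcases Set.mem_insert_iff.mp hM with rfl | hM
    · exact ⟨hN0, hN⟩
    · exact hprop M hM⟩ (Set.subset_insert N S) (Set.mem_insert N S))

end Groth.Agent.H4Inj
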